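import Groth.Agent.Reductive.HomScheme.Extend
import Mathlib.AlgebraicGeometry.RelativeGluing

/-!
The scheme of morphisms from a finite locally free scheme to an affine one.
-/

set_option autoImplicit false
universe u

open CategoryTheory MonoidalCategory CartesianMonoidalCategory AlgebraicGeometry

noncomputable section

namespace Groth.Reductive.HomScheme

variable {S : Scheme.{u}} (X Y : Over S)

/-- A representing scheme over an affine open. -/
structure Chart (U : S.affineOpens) where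
  W : Scheme.{u}
  k : W ⟶ (U.1 : Scheme.{u})
  ev : X ⊗ Over.mk (k ≫ U.1.ι) ⟶ Y
  affine : IsAffineHom k
  rep : RepOn X Y (U.1 : Set S) ev
  lft : LocallyOfFiniteType Y.hom → LocallyOfFiniteType k
  lfp : LocallyOfFinitePresentation Y.hom → LocallyOfFinitePresentation k

variable {X Y}

/-- Transport of a representing object along an isomorphism. -/
lemma RepOn.of_iso {U : Set S} {M M' : Over S} {ev : X ⊗ M ⟶ Y} (h : RepOn X Y U ev) (e : M' ≅ M) :
    RepOn X Y U ((X ◁ e.hom) ≫ ev) := fun T hT hTr φ ↦ by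
  obtain ⟨v, hv, hvu⟩ := h T hT hTr φ
  refine ⟨v ≫ e.inv, ?_, fun v' hv' ↦ ?_⟩
  · show (X ◁ (v ≫ e.inv)) ≫ (X ◁ e.hom) ≫ ev = φ
    rw [← whiskerLeft_comp_assoc, Category.assoc, Iso.inv_hom_id, Category.comp_id, hv]
  · rw [← hvu (v' ≫ e.hom) (by
      show (X ◁ (v' ≫ e.hom)) ≫ ev = φ
      rw [whiskerLeft_comp, Category.assoc, hv']), Category.assoc, Iso.hom_inv_id, Category.comp_id]

lemma exists_chart [IsFinite X.hom] [Flat X.hom] [LocallyOfFinitePresentation X.hom]
    [IsAffineHom Y.hom] (U : S.affineOpens) : Nonempty (Chart X Y U) := by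
  obtain ⟨W, k, ev, hk, hrep, hlft, hlfp⟩ := exists_local U.2.fromSpec X Y
  let e : Over.mk ((k ≫ U.2.isoSpec.inv) ≫ U.1.ι) ≅ Over.mk (k ≫ U.2.fromSpec) :=
    Over.isoMk (Iso.refl W) (by simp)
  refine ⟨⟨W, k ≫ U.2.isoSpec.inv, (X ◁ e.hom) ≫ ev, inferInstance, ?_, fun h ↦ ?_, fun h ↦ ?_⟩⟩
  · have := hrep.of_iso e
    rwa [IsAffineOpen.range_fromSpec] at this
  · haveI := hlft h
    infer_instance
  · haveI := hlfp h
    infer_instance

variable (c : ∀ U : S.affineOpens, Chart X Y U)

/-- A chart as an object over the base. -/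
abbrev MU (U : S.affineOpens) : Over S := Over.mk ((c U).k ≫ U.1.ι)

lemma range_MU (U V : S.affineOpens) (h : U ≤ V) :
    Set.range (MU c U).hom ⊆ (V.1 : Set S) := by
  rintro _ ⟨x, rfl⟩
  exact h ((c U).k x).2

lemma exists_trans (U V : S.affineOpens) (h : U ≤ V) :
    ∃! t : MU c U ⟶ MU c V, (X ◁ t) ≫ (c V).ev = (c U).ev :=
  RepOn.existsUnique (c V).rep (range_MU c U V h) _

/-- The transition maps. -/
def tr {U V : S.affineOpens} (h : U ≤ V) : MU c U ⟶ MU c V := (exists_trans c U V h).exists.choose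

lemma tr_spec {U V : S.affineOpens} (h : U ≤ V) : (X ◁ tr c h) ≫ (c V).ev = (c U).ev :=
  (exists_trans c U V h).exists.choose_spec

lemma tr_id (U : S.affineOpens) : tr c (le_refl U) = 𝟙 _ :=
  RepOn.ext (c U).rep (range_MU c U U le_rfl) (by rw [tr_spec, whiskerLeft_id, Category.id_comp])

lemma tr_comp {U V W : S.affineOpens} (h : U ≤ V) (h' : V ≤ W) :
    tr c h ≫ tr c h' = tr c (h.trans h') :=
  RepOn.ext (c W).rep (range_MU c U W (h.trans h'))
    (by rw [tr_spec, whiskerLeft_comp, Category.assoc, tr_spec, tr_spec])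

lemma tr_k {U V : S.affineOpens} (h : U ≤ V) :
    (tr c h).left ≫ (c V).k = (c U).k ≫ S.homOfLE h := by
  rw [← cancel_mono V.1.ι, Category.assoc, Category.assoc, Scheme.homOfLE_ι]
  exact Over.w (tr c h)

lemma isPullback_tr {U V : S.affineOpens} (h : U ≤ V) :
    IsPullback (tr c h).left (c U).k (c V).k (S.homOfLE h) := by
  let P := Limits.pullback (c V).k (S.homOfLE h)
  let TP : Over S := Over.mk (Limits.pullback.snd (c V).k (S.homOfLE h) ≫ U.1.ι)
  let f₁ : TP ⟶ MU c V := Over.homMk (Limits.pullback.fst (c V).k (S.homOfLE h)) (by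
    show Limits.pullback.fst _ _ ≫ (c V).k ≫ V.1.ι = Limits.pullback.snd _ _ ≫ U.1.ι
    rw [Limits.pullback.condition_assoc, Scheme.homOfLE_ι])
  have hU : Set.range TP.hom ⊆ (U.1 : Set S) := by
    rintro _ ⟨x, rfl⟩
    exact (Limits.pullback.snd (c V).k (S.homOfLE h) x).2
  obtain ⟨v, hv, -⟩ := RepOn.existsUnique (c U).rep hU ((X ◁ f₁) ≫ (c V).ev)
  let cmp : MU c U ⟶ TP := Over.homMk (Limits.pullback.lift (tr c h).left (c U).k (tr_k c h)) (by
    show Limits.pullback.lift _ _ _ ≫ Limits.pullback.snd _ _ ≫ U.1.ι = (c U).k ≫ U.1.ι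
    rw [Limits.pullback.lift_snd_assoc])
  have hf : cmp ≫ f₁ = tr c h := Over.OverMorphism.ext (Limits.pullback.lift_fst _ _ _)
  have h1 : cmp ≫ v = 𝟙 _ := RepOn.ext (c U).rep (range_MU c U U le_rfl) (by
    rw [whiskerLeft_comp, Category.assoc, hv, ← whiskerLeft_comp_assoc, hf, tr_spec,
      whiskerLeft_id, Category.id_comp])
  have h2 : v ≫ tr c h = f₁ := RepOn.ext (c V).rep (fun _ hx ↦ h (hU hx)) (by
    rw [whiskerLeft_comp, Category.assoc, tr_spec, hv])
  have h3 : v ≫ cmp = 𝟙 _ := by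
    refine Over.OverMorphism.ext (Limits.pullback.hom_ext ?_ ?_)
    · show (v.left ≫ Limits.pullback.lift _ _ _) ≫ Limits.pullback.fst _ _ = _
      rw [Category.assoc, Limits.pullback.lift_fst, ← Over.comp_left, h2]
      exact (Category.id_comp _).symm
    · show (v.left ≫ Limits.pullback.lift _ _ _) ≫ Limits.pullback.snd _ _ = _
      rw [Category.assoc, Limits.pullback.lift_snd, ← cancel_mono U.1.ι, Category.assoc]
      exact (Over.w v).trans (by simp [TP])
  let e : (c U).W ≅ P := ⟨cmp.left, v.left, congrArg (fun z ↦ z.left) h1, congrArg (fun z ↦ z.left) h3⟩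
  exact IsPullback.of_iso_pullback ⟨tr_k c h⟩ e (Limits.pullback.lift_fst _ _ _)
    (Limits.pullback.lift_snd _ _ _)

/-- The gluing datum. -/
def gluing : S.directedAffineCover.RelativeGluingData where
  functor :=
    { obj := fun U ↦ (c U).W
      map := fun {U V} h ↦ (tr c (leOfHom h)).left
      map_id := fun U ↦ congrArg (fun z ↦ z.left) (tr_id c U)
      map_comp := fun {U V W} h h' ↦ congrArg (fun z ↦ z.left) (tr_comp c (leOfHom h) (leOfHom h')).symm }
  natTrans := { app := fun U ↦ (c U).k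
                naturality := fun {U V} h ↦ tr_k c (leOfHom h) }
  equifibered := fun {U V} h ↦ isPullback_tr c (leOfHom h)

/-- The glued object. -/
abbrev glObj : Over S := Over.mk (gluing c).toBase

/-- The chart inclusions. -/
abbrev incl (U : S.affineOpens) : MU c U ⟶ glObj c :=
  Over.homMk (Limits.colimit.ι (gluing c).functor U) ((gluing c).ι_toBase U)

instance isOpenImmersion_incl (U : S.affineOpens) :
    IsOpenImmersion (Limits.colimit.ι (gluing c).functor U) :=
  (gluing c).cover.map_prop U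

lemma tr_incl {U V : S.affineOpens} (h : U ≤ V) : tr c h ≫ incl c V = incl c U :=
  Over.OverMorphism.ext (Limits.colimit.w (gluing c).functor (homOfLE h))

lemma exists_ev : ∃ ev : X ⊗ glObj c ⟶ Y, ∀ U, (X ◁ incl c U) ≫ ev = (c U).ev := by
  let q := Limits.pullback.snd X.hom (gluing c).toBase
  let 𝒱 := (gluing c).cover.pullback₁ q
  let r : ∀ U : S.affineOpens, Limits.pullback q (Limits.colimit.ι (gluing c).functor U) ⟶
      (X ⊗ MU c U).left := fun U ↦
    Limits.pullback.lift (Limits.pullback.fst _ _ ≫ Limits.pullback.fst X.hom (gluing c).toBase)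
      (Limits.pullback.snd _ _) (by
        show _ = Limits.pullback.snd _ _ ≫ (c U).k ≫ U.1.ι
        rw [Category.assoc, Limits.pullback.condition, Limits.pullback.condition_assoc]
        exact congrArg (Limits.pullback.snd _ _ ≫ ·) ((gluing c).ι_toBase U))
  have hr : ∀ {U V : S.affineOpens} (h : U ≤ V),
      Limits.pullback.map q (Limits.colimit.ι (gluing c).functor U) q
          (Limits.colimit.ι (gluing c).functor V) (𝟙 _) (tr c h).left (𝟙 _)
          (by simp) (by rw [Category.comp_id]; exact (congrArg (fun z ↦ z.left) (tr_incl c h)).symm) ≫ r V =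
        r U ≫ (X ◁ tr c h).left := by
    intro U V h
    apply Limits.pullback.hom_ext
    · rw [Category.assoc, Category.assoc, show (X ◁ tr c h).left ≫ Limits.pullback.fst X.hom (MU c V).hom =
          Limits.pullback.fst X.hom (MU c U).hom from
        congrArg (fun z ↦ z.left) (whiskerLeft_fst X (tr c h))]
      erw [Limits.pullback.lift_fst, Limits.pullback.lift_fst, ← Category.assoc,
        Limits.pullback.lift_fst, Category.comp_id]
    · rw [Category.assoc, Category.assoc, show (X ◁ tr c h).left ≫ Limits.pullback.snd X.hom (MU c V).hom =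
          Limits.pullback.snd X.hom (MU c U).hom ≫ (tr c h).left from
        congrArg (fun z ↦ z.left) (whiskerLeft_snd X (tr c h))]
      erw [Limits.pullback.lift_snd, Limits.pullback.lift_snd, ← Category.assoc,
        Limits.pullback.lift_snd]
      rfl
  let g : ∀ U, 𝒱.X U ⟶ Y.left := fun U ↦ r U ≫ (c U).ev.left
  have hg : ∀ {U V : 𝒱.I₀} (h : U ⟶ V), Scheme.Cover.trans 𝒱 h ≫ g V = g U := by
    intro U V h
    have := hr (leOfHom h)
    show _ ≫ r V ≫ (c V).ev.left = r U ≫ (c U).ev.left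
    rw [← tr_spec c (leOfHom h), Over.comp_left, ← Category.assoc, ← Category.assoc]
    exact congrArg (· ≫ (c V).ev.left) this
  let ev₀ := Scheme.OpenCover.glueMorphismsOfLocallyDirected 𝒱 g hg
  have hev₀ : ∀ U, 𝒱.f U ≫ ev₀ = g U := Scheme.OpenCover.map_glueMorphismsOfLocallyDirected 𝒱 g hg
  let s : ∀ U : S.affineOpens, (X ⊗ MU c U).left ⟶
      Limits.pullback q (Limits.colimit.ι (gluing c).functor U) := fun U ↦
    Limits.pullback.lift (X ◁ incl c U).left (Limits.pullback.snd X.hom (MU c U).hom)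
      (congrArg (fun z ↦ z.left) (whiskerLeft_snd X (incl c U)))
  have hsr : ∀ U, s U ≫ r U = 𝟙 _ := by
    intro U
    apply Limits.pullback.hom_ext
    · simp only [s, r, Category.assoc, Limits.pullback.lift_fst, Limits.pullback.lift_fst_assoc,
        Category.id_comp]
      exact congrArg (fun z ↦ z.left) (whiskerLeft_fst X (incl c U))
    · rw [Category.assoc, Category.id_comp]
      erw [Limits.pullback.lift_snd, Limits.pullback.lift_snd]
  have hw : ev₀ ≫ Y.hom = (X ⊗ glObj c).hom := by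
    refine Scheme.Cover.hom_ext 𝒱 _ _ fun U ↦ ?_
    rw [← Category.assoc, hev₀]
    show (r U ≫ (c U).ev.left) ≫ Y.hom = Limits.pullback.fst q _ ≫ Limits.pullback.fst X.hom _ ≫ X.hom
    rw [Category.assoc, Over.w]
    show r U ≫ Limits.pullback.fst _ _ ≫ X.hom = _
    erw [Limits.pullback.lift_fst_assoc]
    rw [Category.assoc]
  refine ⟨Over.homMk ev₀ hw, fun U ↦ Over.OverMorphism.ext ?_⟩
  show (X ◁ incl c U).left ≫ ev₀ = (c U).ev.left
  have : (X ◁ incl c U).left = s U ≫ 𝒱.f U := (Limits.pullback.lift_fst _ _ _).symm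
  rw [this, Category.assoc]
  refine (congrArg (s U ≫ ·) (hev₀ U)).trans ?_
  show s U ≫ r U ≫ (c U).ev.left = _
  rw [← Category.assoc, hsr U, Category.id_comp]

theorem existsUnique_glued {ev : X ⊗ glObj c ⟶ Y} (hev : ∀ U, (X ◁ incl c U) ≫ ev = (c U).ev)
    (T : Over S) (φ : X ⊗ T ⟶ Y) : ∃! v : T ⟶ glObj c, (X ◁ v) ≫ ev = φ := by
  let 𝒰 := S.directedAffineCover.pullback₁ T.hom
  have hrange : ∀ U : S.affineOpens, Set.range (coverObj T 𝒰 U).hom ⊆ (U.1 : Set S) := by
    rintro U _ ⟨x, rfl⟩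
    show (Limits.pullback.fst T.hom U.1.ι ≫ T.hom) x ∈ _
    rw [Limits.pullback.condition, Scheme.Hom.comp_apply]
    exact (Limits.pullback.snd T.hom U.1.ι x).2
  choose v hv hvu using fun U ↦
    RepOn.existsUnique (c U).rep (hrange U) ((X ◁ coverMap T 𝒰 U) ≫ φ)
  let vl : ∀ U, 𝒰.X U ⟶ (gluing c).glued := fun U ↦ (v U ≫ incl c U).left
  have hcompat : ∀ {U V : 𝒰.I₀} (h : U ⟶ V), Scheme.Cover.trans 𝒰 h ≫ vl V = vl U := by
    intro U V h
    let a : coverObj T 𝒰 U ⟶ coverObj T 𝒰 V := Over.homMk (Scheme.Cover.trans 𝒰 h) (by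
      show Scheme.Cover.trans 𝒰 h ≫ 𝒰.f V ≫ T.hom = 𝒰.f U ≫ T.hom
      rw [← Category.assoc, Scheme.Cover.trans_map])
    have ha : a ≫ coverMap T 𝒰 V = coverMap T 𝒰 U :=
      Over.OverMorphism.ext (Scheme.Cover.trans_map 𝒰 h)
    have e : a ≫ v V = v U ≫ tr c (U := U) (V := V) (leOfHom (X := S.affineOpens) h) :=
      RepOn.ext (c V).rep (fun _ hx ↦ leOfHom (X := S.affineOpens) h (hrange U hx)) (by
        rw [whiskerLeft_comp, Category.assoc, hv, ← whiskerLeft_comp_assoc, ha, whiskerLeft_comp,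
          Category.assoc, tr_spec, hv])
    have := congrArg (fun z ↦ (z ≫ incl c V).left) e
    simp only [Category.assoc, tr_incl, Over.comp_left] at this
    exact this
  let V : T ⟶ glObj c := Over.homMk (Scheme.OpenCover.glueMorphismsOfLocallyDirected 𝒰 vl hcompat) (by
    refine Scheme.Cover.hom_ext 𝒰 _ _ fun U ↦ ?_
    rw [← Category.assoc, Scheme.OpenCover.map_glueMorphismsOfLocallyDirected]
    exact Over.w (v U ≫ incl c U))
  have hV : ∀ U, coverMap T 𝒰 U ≫ V = v U ≫ incl c U := fun U ↦ Over.OverMorphism.ext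
    (Scheme.OpenCover.map_glueMorphismsOfLocallyDirected 𝒰 vl hcompat U)
  refine ⟨V, hom_ext_whisker 𝒰 fun U ↦ ?_, fun v' hv' ↦ ?_⟩
  · rw [← Category.assoc, ← whiskerLeft_comp, hV, whiskerLeft_comp, Category.assoc, hev, hv]
  · refine Over.OverMorphism.ext (Scheme.Cover.hom_ext 𝒰 _ _ fun (U : S.affineOpens) ↦ ?_)
    have hle : Set.range (coverMap T 𝒰 U ≫ v').left ⊆
        Set.range (Limits.colimit.ι (gluing c).functor U) := by
      rw [← (gluing c).preimage_toBase_eq_range_ι U]
      rintro _ ⟨x, rfl⟩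
      show (gluing c).toBase _ ∈ Set.range U.1.ι
      rw [← Scheme.Hom.comp_apply, Scheme.Opens.range_ι,
        show (coverMap T 𝒰 U ≫ v').left ≫ (gluing c).toBase = (coverObj T 𝒰 U).hom from Over.w _]
      exact hrange U ⟨x, rfl⟩
    let w : coverObj T 𝒰 U ⟶ MU c U :=
      Over.homMk (IsOpenImmersion.lift (H := isOpenImmersion_incl c U)
        (Limits.colimit.ι (gluing c).functor U) (coverMap T 𝒰 U ≫ v').left hle) (by
      have h1 : Limits.colimit.ι (gluing c).functor U ≫ (gluing c).toBase = (MU c U).hom :=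
        (gluing c).ι_toBase U
      rw [← h1]
      refine (Category.assoc _ _ _).symm.trans ?_
      refine (congrArg (· ≫ (gluing c).toBase) (IsOpenImmersion.lift_fac (H := isOpenImmersion_incl c U) _ _ _)).trans ?_
      exact Over.w (coverMap T 𝒰 U ≫ v'))
    have hw : w ≫ incl c U = coverMap T 𝒰 U ≫ v' :=
      Over.OverMorphism.ext (IsOpenImmersion.lift_fac (H := isOpenImmersion_incl c U) _ _ _)
    have hwv : w = v U := hvu U w (by
      show (X ◁ w) ≫ (c U).ev = _
      rw [← hev, ← whiskerLeft_comp_assoc, hw, whiskerLeft_comp, Category.assoc, hv'])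
    exact congrArg (fun z ↦ z.left) ((hw.symm.trans (by rw [hwv])).trans (hV U).symm)

/-- The scheme of morphisms from a finite locally free scheme to an affine one. -/
theorem exists_homScheme (X Y : Over S) [IsFinite X.hom] [Flat X.hom]
    [LocallyOfFinitePresentation X.hom] [IsAffineHom Y.hom] :
    ∃ (M : Over S) (ev : X ⊗ M ⟶ Y), IsAffineHom M.hom ∧
      (∀ (T : Over S) (φ : X ⊗ T ⟶ Y), ∃! v : T ⟶ M, (X ◁ v) ≫ ev = φ) ∧
      (LocallyOfFiniteType Y.hom → LocallyOfFiniteType M.hom) ∧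
      (LocallyOfFinitePresentation Y.hom → LocallyOfFinitePresentation M.hom) := by
  let c : ∀ U : S.affineOpens, Chart X Y U := fun U ↦ (exists_chart U).some
  obtain ⟨ev, hev⟩ := exists_ev c
  have key : ∀ (P : MorphismProperty Scheme.{u}) [IsZariskiLocalAtTarget P],
      (∀ U, P (c U).k) → P (glObj c).hom := fun P _ h ↦ by
    rw [IsZariskiLocalAtTarget.iff_of_openCover (P := P) S.directedAffineCover]
    intro U
    have e := ((gluing c).isPullback_natTrans_ι_toBase U).flip
    change P (Limits.pullback.snd (gluing c).toBase U.1.ι)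
    refine (P.cancel_left_of_respectsIso e.isoPullback.hom _).mp ?_
    exact Eq.mpr (congrArg (fun z ↦ P z) e.isoPullback_hom_snd) (h U)
  exact ⟨glObj c, ev, key @IsAffineHom fun U ↦ (c U).affine, existsUnique_glued c hev,
    fun h ↦ key @LocallyOfFiniteType fun U ↦ (c U).lft h,
    fun h ↦ key @LocallyOfFinitePresentation fun U ↦ (c U).lfp h⟩

end Groth.Reductive.HomScheme
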