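import Groth.Agent.Reductive.HomScheme.Global
import Groth.Agent.FlatMor2.ClosedLift
import Groth.Agent.PropsBasic2.Misc
import Groth.Prelude.Def_AutFam
import Mathlib.AlgebraicGeometry.Morphisms.Separated

/-!
Schemes of homomorphisms, centralisers and transporters of finite locally free schemes.
-/

set_option autoImplicit false
universe u

open CategoryTheory MonoidalCategory CartesianMonoidalCategory MonObj AlgebraicGeometry
open scoped TensorProduct

noncomputable section

namespace Groth.Reductive.HomScheme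

variable {S : Scheme.{u}}

/-- `M` with `ev` represents morphisms from `X` to `Y`. -/
def IsHomScheme (X Y : Over S) {M : Over S} (ev : X ⊗ M ⟶ Y) : Prop :=
  ∀ (T : Over S) (φ : X ⊗ T ⟶ Y), ∃! v : T ⟶ M, (X ◁ v) ≫ ev = φ

lemma IsHomScheme.ext {X Y M T : Over S} {ev : X ⊗ M ⟶ Y} (h : IsHomScheme X Y ev) {v v' : T ⟶ M}
    (e : (X ◁ v) ≫ ev = (X ◁ v') ≫ ev) : v = v' :=
  (h T ((X ◁ v') ≫ ev)).unique e rfl

lemma isSeparated_fst (M : Over S) [IsSeparated M.hom] :
    IsSeparated (Limits.pullback.fst M.hom M.hom) :=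
  MorphismProperty.pullback_fst _ _ inferInstance

/-- The equaliser of two morphisms to a separated object. -/
lemma exists_equalizer {M N : Over S} [IsSeparated N.hom] (α β : M ⟶ N) :
    ∃ (A : Over S) (ι₀ : A ⟶ M), IsClosedImmersion ι₀.left ∧
      (LocallyOfFiniteType N.hom → LocallyOfFinitePresentation ι₀.left) ∧ ι₀ ≫ α = ι₀ ≫ β ∧
      ∀ (T : Over S) (v : T ⟶ M), (∃ w, w ≫ ι₀ = v) ↔ v ≫ α = v ≫ β := by
  let Δ := (lift (𝟙 N) (𝟙 N)).left
  let f := (lift α β).left
  have hΔfst : Δ ≫ Limits.pullback.fst N.hom N.hom = 𝟙 N.left :=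
    congrArg (fun z ↦ z.left) (lift_fst (𝟙 N) (𝟙 N))
  have hci : IsClosedImmersion Δ := by
    have := isSeparated_fst N
    have : IsClosedImmersion (Δ ≫ Limits.pullback.fst N.hom N.hom) := by
      rw [hΔfst]; infer_instance
    exact IsClosedImmersion.of_comp Δ (Limits.pullback.fst N.hom N.hom)
  let A : Over S := Over.mk (Limits.pullback.fst f Δ ≫ M.hom)
  let ι₀ : A ⟶ M := Over.homMk (Limits.pullback.fst f Δ) rfl
  have key : ∀ (T : Over S) (v : T ⟶ M), (∃ w, w ≫ ι₀ = v) ↔ v ≫ α = v ≫ β := by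
    intro T v
    constructor
    · rintro ⟨w, rfl⟩
      have h : ((w ≫ ι₀) ≫ lift α β) =
          Over.homMk (w.left ≫ Limits.pullback.snd f Δ) (by
            have e : Limits.pullback.snd f Δ ≫ N.hom = A.hom := by
              show _ = Limits.pullback.fst f Δ ≫ M.hom
              rw [← Over.w (lift α β), ← Over.w (lift (𝟙 N) (𝟙 N)),
                ← Limits.pullback.condition_assoc]
            rw [Category.assoc, e, Over.w]) ≫ lift (𝟙 N) (𝟙 N) := by
        refine Over.OverMorphism.ext ?_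
        show (w.left ≫ Limits.pullback.fst f Δ) ≫ f = (w.left ≫ Limits.pullback.snd f Δ) ≫ Δ
        rw [Category.assoc, Category.assoc, Limits.pullback.condition]
      have h1 := congrArg (· ≫ fst N N) h
      have h2 := congrArg (· ≫ snd N N) h
      simp only [Category.assoc, lift_fst, lift_snd, Category.comp_id] at h1 h2
      rw [Category.assoc, Category.assoc, h1, h2]
    · intro h
      have hc : v ≫ lift α β = (v ≫ α) ≫ lift (𝟙 N) (𝟙 N) := by
        apply CartesianMonoidalCategory.hom_ext <;> simp [h]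
      refine ⟨Over.homMk (Limits.pullback.lift v.left (v ≫ α).left
        (congrArg (fun z ↦ z.left) hc)) ?_, Over.OverMorphism.ext (Limits.pullback.lift_fst _ _ _)⟩
      show Limits.pullback.lift _ _ _ ≫ Limits.pullback.fst f Δ ≫ M.hom = T.hom
      rw [Limits.pullback.lift_fst_assoc, Over.w]
  refine ⟨A, ι₀, MorphismProperty.pullback_fst _ _ hci, fun hN ↦ ?_,
    (key A ι₀).mp ⟨𝟙 A, Category.id_comp _⟩, key⟩
  haveI := hN
  have : LocallyOfFiniteType (Limits.pullback.fst N.hom N.hom) :=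
    MorphismProperty.pullback_fst _ _ inferInstance
  have : LocallyOfFinitePresentation (Δ ≫ Limits.pullback.fst N.hom N.hom) := by
    rw [hΔfst]; infer_instance
  exact MorphismProperty.pullback_fst _ _ (Groth.PropsBasic2.lfp_of_comp Δ (Limits.pullback.fst N.hom N.hom))

lemma isHomFamily_iff (H G : Over S) [GrpObj H] [GrpObj G] {T : Over S} (φ : H ⊗ T ⟶ G) :
    AutFam.IsHomFamily H G φ ↔ (μ ▷ T) ≫ φ =
      (lift (fst (H ⊗ H) T ≫ fst H H) (snd (H ⊗ H) T) ≫ φ) *
        (lift (fst (H ⊗ H) T ≫ snd H H) (snd (H ⊗ H) T) ≫ φ) := by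
  constructor
  · intro h
    rw [← h ((H ⊗ H) ⊗ T) (fst (H ⊗ H) T ≫ fst H H) (fst (H ⊗ H) T ≫ snd H H) (snd (H ⊗ H) T)]
    congr 1
    apply CartesianMonoidalCategory.hom_ext
    · rw [whiskerRight_fst, lift_fst, Hom.mul_def, ← comp_lift_assoc, lift_fst_snd, Category.id_comp]
    · rw [whiskerRight_snd, lift_snd]
  · intro h X g₁ g₂ t
    have h' := lift (lift g₁ g₂) t ≫= h
    rw [lift_whiskerRight_assoc, ← Hom.mul_def, MonObj.comp_mul, ← Category.assoc, ← Category.assoc,
      comp_lift, comp_lift] at h'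
    simpa using h'

/-- The scheme of group homomorphisms from a finite locally free group to an affine group. -/
theorem exists_homGrp (H G : Over S) [GrpObj H] [GrpObj G] [IsFinite H.hom] [Flat H.hom]
    [LocallyOfFinitePresentation H.hom] [IsAffineHom G.hom] :
    ∃ (A : Over S) (υ : H ⊗ A ⟶ G), AutFam.RepresentsHom H G A υ ∧ IsAffineHom A.hom ∧
      (LocallyOfFiniteType G.hom → LocallyOfFiniteType A.hom) ∧
      (LocallyOfFinitePresentation G.hom → LocallyOfFinitePresentation A.hom) := by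
  obtain ⟨M, ev, hMa, hM, hMt, hMp⟩ := exists_homScheme H G
  haveI := hMa
  have i1 : IsFinite (H ⊗ H).hom := by
    haveI : IsFinite (Limits.pullback.fst H.hom H.hom) := MorphismProperty.pullback_fst _ _ inferInstance
    exact inferInstanceAs (IsFinite (Limits.pullback.fst H.hom H.hom ≫ H.hom))
  have i2 : Flat (H ⊗ H).hom := by
    haveI : Flat (Limits.pullback.fst H.hom H.hom) := MorphismProperty.pullback_fst _ _ inferInstance
    exact inferInstanceAs (Flat (Limits.pullback.fst H.hom H.hom ≫ H.hom))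
  have i3 : LocallyOfFinitePresentation (H ⊗ H).hom := by
    haveI : LocallyOfFinitePresentation (Limits.pullback.fst H.hom H.hom) :=
      MorphismProperty.pullback_fst _ _ inferInstance
    exact inferInstanceAs (LocallyOfFinitePresentation (Limits.pullback.fst H.hom H.hom ≫ H.hom))
  obtain ⟨M₂, ev₂, hM₂a, hM₂, hM₂t, hM₂p⟩ := exists_homScheme (H ⊗ H) G
  haveI := hM₂a
  obtain ⟨α, hα, -⟩ := hM₂ M ((μ ▷ M) ≫ ev)
  obtain ⟨β, hβ, -⟩ := hM₂ M ((lift (fst (H ⊗ H) M ≫ fst H H) (snd (H ⊗ H) M) ≫ ev) *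
    (lift (fst (H ⊗ H) M ≫ snd H H) (snd (H ⊗ H) M) ≫ ev))
  have key : ∀ (T : Over S) (v : T ⟶ M),
      v ≫ α = v ≫ β ↔ AutFam.IsHomFamily H G ((H ◁ v) ≫ ev) := by
    intro T v
    have e1 : ((H ⊗ H) ◁ (v ≫ α)) ≫ ev₂ = (μ ▷ T) ≫ (H ◁ v) ≫ ev := by
      rw [whiskerLeft_comp, Category.assoc, hα, whisker_exchange_assoc]
    have e2 : ((H ⊗ H) ◁ (v ≫ β)) ≫ ev₂ =
        (lift (fst (H ⊗ H) T ≫ fst H H) (snd (H ⊗ H) T) ≫ (H ◁ v) ≫ ev) *
          (lift (fst (H ⊗ H) T ≫ snd H H) (snd (H ⊗ H) T) ≫ (H ◁ v) ≫ ev) := by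
      rw [whiskerLeft_comp, Category.assoc, hβ, MonObj.comp_mul, ← Category.assoc, ← Category.assoc,
        lift_whiskerLeft_assoc, lift_whiskerLeft_assoc, comp_lift, comp_lift,
        whiskerLeft_snd, whiskerLeft_fst_assoc, whiskerLeft_fst_assoc]
    rw [isHomFamily_iff, ← e1, ← e2]
    exact ⟨fun h ↦ by rw [h], fun h ↦ IsHomScheme.ext hM₂ h⟩
  obtain ⟨A, ι₀, hci, hlfp, heq, huniv⟩ := exists_equalizer α β
  haveI := hci
  refine ⟨A, (H ◁ ι₀) ≫ ev, ⟨(key A ι₀).mp heq, fun T φ hφ ↦ ?_⟩, ?_, fun h ↦ ?_, fun h ↦ ?_⟩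
  · obtain ⟨v, hv, -⟩ := hM T φ
    obtain ⟨w, hw⟩ := (huniv T v).mpr ((key T v).mpr (hv.symm ▸ hφ))
    refine ⟨w, ?_, fun w' hw' ↦ ?_⟩
    · show (H ◁ w) ≫ (H ◁ ι₀) ≫ ev = φ
      rw [← whiskerLeft_comp_assoc, hw, hv]
    · have : IsClosedImmersion ι₀.left := hci
      have h1 : w' ≫ ι₀ = v := IsHomScheme.ext hM (by
        rw [hv, whiskerLeft_comp, Category.assoc]; exact hw')
      refine Over.OverMorphism.ext ((cancel_mono ι₀.left).mp ?_)
      exact congrArg (fun z ↦ z.left) (h1.trans hw.symm)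
  · rw [← Over.w ι₀]; infer_instance
  · haveI := hMt h
    rw [← Over.w ι₀]; infer_instance
  · haveI := hMp h
    haveI : LocallyOfFiniteType G.hom := inferInstance
    haveI := hlfp (hM₂t inferInstance)
    rw [← Over.w ι₀]; infer_instance

/-- Morphisms into a closed subscheme form a closed subscheme. -/
theorem isClosedImmersion_homScheme_map {Y G Y' M K : Over S} [IsFinite Y.hom] [Flat Y.hom]
    {ev : Y ⊗ M ⟶ G} (hM : IsHomScheme Y G ev) {evK : Y ⊗ K ⟶ Y'} (hK : IsHomScheme Y Y' evK)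
    (y' : Y' ⟶ G) [IsClosedImmersion y'.left] [IsAffineHom M.hom] [IsAffineHom K.hom] (j : K ⟶ M)
    (hj : (Y ◁ j) ≫ ev = evK ≫ y') : IsClosedImmersion j.left := by
  have : IsAffineHom j.left := by
    haveI : IsAffineHom (j.left ≫ M.hom) := by rw [Over.w]; infer_instance
    exact MorphismProperty.of_postcomp (W := @IsAffineHom) (W' := @IsSeparated) j.left M.hom
      inferInstance inferInstance
  rw [Groth.FlatMor2.isClosedImmersion_iff_liftsInjective]
  intro A B _ _ φ hφ a b hab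
  let g : Spec (CommRingCat.of A) ⟶ S := b ≫ M.hom
  let TA : Over S := Over.mk g
  let TB : Over S := Over.mk (Spec.map (CommRingCat.ofHom φ) ≫ g)
  let p : TB ⟶ TA := Over.homMk (Spec.map (CommRingCat.ofHom φ)) rfl
  let bO : TA ⟶ M := Over.homMk b rfl
  let aO : TB ⟶ K := Over.homMk a (by
    show a ≫ K.hom = Spec.map _ ≫ b ≫ M.hom
    rw [← Category.assoc, hab, Category.assoc, Over.w])
  have hpb : p ≫ bO = aO ≫ j := Over.OverMorphism.ext hab
  have hfac : (Y ◁ p) ≫ (Y ◁ bO) ≫ ev = ((Y ◁ aO) ≫ evK) ≫ y' := by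
    rw [← whiskerLeft_comp_assoc, hpb, whiskerLeft_comp_assoc, hj, Category.assoc]
  obtain ⟨A', _, _, xA, hA⟩ := exists_affine_model Y (R := CommRingCat.of A) g
  letI : Algebra A B := φ.toAlgebra
  have hflat : Module.Flat A A' := by
    have h : Flat (Spec.map (CommRingCat.ofHom (algebraMap A A'))) :=
      MorphismProperty.of_isPullback hA inferInstance
    rw [HasRingHomProperty.Spec_iff (P := @Flat)] at h
    exact RingHom.flat_algebraMap_iff.mp h
  let inL : A' →+* A' ⊗[A] B := Algebra.TensorProduct.includeLeftRingHom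
  have hinj : Function.Injective inL :=
    Algebra.TensorProduct.includeLeft_injective (S := A) hφ
  have hB : IsPullback (Spec.map (CommRingCat.ofHom inL) ≫ xA)
      (Spec.map (CommRingCat.ofHom
        (Algebra.TensorProduct.includeRight : B →ₐ[A] A' ⊗[A] B).toRingHom))
      Y.hom TB.hom :=
    ((isPullback_SpecMap_of_isPushout _ _ _ _
      (CommRingCat.isPushout_tensorProduct A A' B)).flip.paste_vert hA.flip).flip
  let eA : Spec (CommRingCat.of A') ≅ (Y ⊗ TA).left := hA.isoPullback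
  let eB : Spec (CommRingCat.of (A' ⊗[A] B)) ≅ (Y ⊗ TB).left := hB.isoPullback
  have hsq : eB.hom ≫ (Y ◁ p).left = Spec.map (CommRingCat.ofHom inL) ≫ eA.hom := by
    apply Limits.pullback.hom_ext
    · rw [Category.assoc, show (Y ◁ p).left ≫ Limits.pullback.fst Y.hom TA.hom =
          Limits.pullback.fst Y.hom TB.hom from congrArg (fun z ↦ z.left) (whiskerLeft_fst Y p),
        Category.assoc]
      exact hB.isoPullback_hom_fst.trans (congrArg _ hA.isoPullback_hom_fst.symm)
    · rw [Category.assoc, show (Y ◁ p).left ≫ Limits.pullback.snd Y.hom TA.hom =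
          Limits.pullback.snd Y.hom TB.hom ≫ p.left from
        congrArg (fun z ↦ z.left) (whiskerLeft_snd Y p), ← Category.assoc,
        show eB.hom ≫ Limits.pullback.snd Y.hom TB.hom = _ from hB.isoPullback_hom_snd,
        Category.assoc]
      refine Eq.trans ?_ (congrArg _ hA.isoPullback_hom_snd.symm)
      show Spec.map _ ≫ Spec.map _ = Spec.map _ ≫ Spec.map _
      rw [← Spec.map_comp, ← Spec.map_comp, ← CommRingCat.ofHom_comp, ← CommRingCat.ofHom_comp]
      congr 2
      exact RingHom.ext fun x ↦ by simp [inL, RingHom.algebraMap_toAlgebra, Algebra.TensorProduct.tmul_one_eq_one_tmul]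
  obtain ⟨l, -, hl⟩ := Groth.FlatMor2.liftsInjective_of_isClosedImmersion y'.left A' (A' ⊗[A] B) inL
    hinj (eB.hom ≫ ((Y ◁ aO) ≫ evK).left) (eA.hom ≫ ((Y ◁ bO) ≫ ev).left) (by
      have e := congrArg (fun z ↦ eB.hom ≫ z.left) hfac
      simp only [Over.comp_left] at e ⊢
      simp only [← Category.assoc] at e ⊢
      rw [← e, hsq])
  let Ψ : Y ⊗ TA ⟶ Y' := Over.homMk (eA.inv ≫ l) (by
    rw [Category.assoc, ← Over.w y', ← Category.assoc l, hl]
    simp)
  have hΨ : Ψ ≫ y' = (Y ◁ bO) ≫ ev := Over.OverMorphism.ext (by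
    show (eA.inv ≫ l) ≫ y'.left = _
    rw [Category.assoc, hl, Iso.inv_hom_id_assoc])
  obtain ⟨w, hw, -⟩ := hK TA Ψ
  have hwj : w ≫ j = bO := IsHomScheme.ext hM (by
    rw [whiskerLeft_comp_assoc, hj, ← Category.assoc, hw, hΨ])
  refine ⟨w.left, ?_, congrArg (fun z ↦ z.left) hwj⟩
  have hpw : p ≫ w = aO := IsHomScheme.ext hK (by
    have e : ((Y ◁ (p ≫ w)) ≫ evK) ≫ y' = ((Y ◁ aO) ≫ evK) ≫ y' := by
      rw [← hfac, ← hΨ, ← hw, whiskerLeft_comp]
      simp only [Category.assoc]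
    exact Over.OverMorphism.ext ((cancel_mono y'.left).mp (congrArg (fun z ↦ z.left) e)))
  exact congrArg (fun z ↦ z.left) hpw

end Groth.Reductive.HomScheme
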