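import Groth.Agent.Reductive.HomScheme.Local
import Mathlib.AlgebraicGeometry.Cover.Directed

/-!
Representing on affine schemes suffices.
-/

set_option autoImplicit false
universe u

open CategoryTheory MonoidalCategory CartesianMonoidalCategory AlgebraicGeometry

noncomputable section

namespace Groth.Reductive.HomScheme

variable {S : Scheme.{u}} {X Y M T : Over S}

/-- A member of an open cover as an object over the base. -/
abbrev coverObj (T : Over S) (𝒰 : T.left.OpenCover) (i : 𝒰.I₀) : Over S :=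
  Over.mk (𝒰.f i ≫ T.hom)

/-- A member of an open cover as a morphism over the base. -/
abbrev coverMap (T : Over S) (𝒰 : T.left.OpenCover) (i : 𝒰.I₀) : coverObj T 𝒰 i ⟶ T :=
  Over.homMk (𝒰.f i) rfl

/-- Morphisms out of a product are equal if they are so on an open cover of a factor. -/
lemma hom_ext_whisker (𝒰 : T.left.OpenCover) {φ φ' : X ⊗ T ⟶ Y}
    (h : ∀ i, (X ◁ coverMap T 𝒰 i) ≫ φ = (X ◁ coverMap T 𝒰 i) ≫ φ') : φ = φ' := by
  refine Over.OverMorphism.ext (Scheme.Cover.hom_ext
    (𝒰.pullback₁ (Limits.pullback.snd X.hom T.hom)) _ _ fun i ↦ ?_)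
  let r : (𝒰.pullback₁ (Limits.pullback.snd X.hom T.hom)).X i ⟶ (X ⊗ coverObj T 𝒰 i).left :=
    Limits.pullback.lift
      (Limits.pullback.fst (Limits.pullback.snd X.hom T.hom) (𝒰.f i) ≫ Limits.pullback.fst X.hom T.hom)
      (Limits.pullback.snd (Limits.pullback.snd X.hom T.hom) (𝒰.f i))
      (by
        show _ = Limits.pullback.snd _ _ ≫ 𝒰.f i ≫ T.hom
        rw [← Limits.pullback.condition_assoc, Category.assoc, Limits.pullback.condition]
        rfl)
  have hr : r ≫ (X ◁ coverMap T 𝒰 i).left =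
      Limits.pullback.fst (Limits.pullback.snd X.hom T.hom) (𝒰.f i) := by
    apply Limits.pullback.hom_ext
    · rw [Category.assoc, show (X ◁ coverMap T 𝒰 i).left ≫ Limits.pullback.fst X.hom T.hom =
          Limits.pullback.fst X.hom (coverObj T 𝒰 i).hom from
        congrArg (fun z ↦ z.left) (whiskerLeft_fst X (coverMap T 𝒰 i))]
      exact Limits.pullback.lift_fst _ _ _
    · rw [Category.assoc, show (X ◁ coverMap T 𝒰 i).left ≫ Limits.pullback.snd X.hom T.hom =
          Limits.pullback.snd X.hom (coverObj T 𝒰 i).hom ≫ 𝒰.f i from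
        congrArg (fun z ↦ z.left) (whiskerLeft_snd X (coverMap T 𝒰 i)), ← Category.assoc,
        show r ≫ Limits.pullback.snd X.hom (coverObj T 𝒰 i).hom = _ from Limits.pullback.lift_snd _ _ _]
      exact Limits.pullback.condition.symm
  refine (congrArg (· ≫ φ.left) hr.symm).trans (Eq.trans ?_ (congrArg (· ≫ φ'.left) hr))
  exact (Category.assoc _ _ _).trans
    ((congrArg (r ≫ ·) (congrArg (fun z ↦ z.left) (h i))).trans (Category.assoc _ _ _).symm)

variable {U : Set S} {ev : X ⊗ M ⟶ Y}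

lemma range_comp_subset {T T' : Over S} (j : T' ⟶ T) (hT : Set.range T.hom ⊆ U) :
    Set.range T'.hom ⊆ U := by
  rintro _ ⟨x, rfl⟩
  refine hT ⟨j.left x, ?_⟩
  rw [← Scheme.Hom.comp_apply, Over.w]

/-- Two morphisms with the same family are equal. -/
lemma RepOn.ext (hev : RepOn X Y U ev) (hT : Set.range T.hom ⊆ U) {v v' : T ⟶ M}
    (h : (X ◁ v) ≫ ev = (X ◁ v') ≫ ev) : v = v' := by
  refine Over.OverMorphism.ext (Scheme.Cover.hom_ext T.left.affineCover _ _ fun i ↦ ?_)
  have : IsAffine (coverObj T T.left.affineCover i).left := inferInstanceAs (IsAffine (Spec _))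
  have e := (hev (coverObj T T.left.affineCover i) inferInstance
    (range_comp_subset (coverMap T T.left.affineCover i) hT)
    ((X ◁ (coverMap T T.left.affineCover i ≫ v)) ≫ ev)).unique rfl
    (y₂ := coverMap T T.left.affineCover i ≫ v') (by
      rw [whiskerLeft_comp, Category.assoc, ← h, ← Category.assoc, ← whiskerLeft_comp])
  exact congrArg (fun z ↦ z.left) e

/-- Representing on affines is representing on all schemes over the open. -/
lemma RepOn.existsUnique (hev : RepOn X Y U ev) (hT : Set.range T.hom ⊆ U) (φ : X ⊗ T ⟶ Y) :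
    ∃! v : T ⟶ M, (X ◁ v) ≫ ev = φ := by
  let 𝒰 := T.left.affineCover
  have : ∀ i, IsAffine (coverObj T 𝒰 i).left := fun i ↦ inferInstanceAs (IsAffine (Spec _))
  have hex : ∀ i, ∃! v, (X ◁ v) ≫ ev = (X ◁ coverMap T 𝒰 i) ≫ φ := fun i ↦
    hev (coverObj T 𝒰 i) inferInstance (range_comp_subset (coverMap T 𝒰 i) hT) _
  choose v hv using fun i ↦ (hex i).exists
  have hcompat : ∀ i j, Limits.pullback.fst (𝒰.f i) (𝒰.f j) ≫ (v i).left =
      Limits.pullback.snd (𝒰.f i) (𝒰.f j) ≫ (v j).left := by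
    intro i j
    let P : Over S := Over.mk (Limits.pullback.fst (𝒰.f i) (𝒰.f j) ≫ 𝒰.f i ≫ T.hom)
    let a : P ⟶ coverObj T 𝒰 i := Over.homMk (Limits.pullback.fst (𝒰.f i) (𝒰.f j)) rfl
    let b : P ⟶ coverObj T 𝒰 j := Over.homMk (Limits.pullback.snd (𝒰.f i) (𝒰.f j))
      (Limits.pullback.condition_assoc _).symm
    have hab : a ≫ coverMap T 𝒰 i = b ≫ coverMap T 𝒰 j :=
      Over.OverMorphism.ext Limits.pullback.condition
    exact congrArg (fun z ↦ z.left) (RepOn.ext hev (range_comp_subset (a ≫ coverMap T 𝒰 i) hT)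
      (v := a ≫ v i) (v' := b ≫ v j) (by
        rw [whiskerLeft_comp, whiskerLeft_comp, Category.assoc, Category.assoc, hv, hv,
          ← Category.assoc, ← Category.assoc, ← whiskerLeft_comp, ← whiskerLeft_comp, hab]))
  let V : T ⟶ M := Over.homMk (𝒰.glueMorphisms (fun i ↦ (v i).left) hcompat) (by
    refine Scheme.Cover.hom_ext 𝒰 _ _ fun i ↦ ?_
    rw [← Category.assoc, Scheme.Cover.ι_glueMorphisms]
    exact Over.w (v i))
  have hV : ∀ i, coverMap T 𝒰 i ≫ V = v i := fun i ↦
    Over.OverMorphism.ext (Scheme.Cover.ι_glueMorphisms 𝒰 _ hcompat i)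
  have hfac : (X ◁ V) ≫ ev = φ := hom_ext_whisker 𝒰 fun i ↦ by
    rw [← Category.assoc, ← whiskerLeft_comp, hV, hv]
  exact ⟨V, hfac, fun v' hv' ↦ RepOn.ext hev hT (hv'.trans hfac.symm)⟩

end Groth.Reductive.HomScheme
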