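import Groth.Agent.Reductive.HomScheme.Ring
import Mathlib.AlgebraicGeometry.Morphisms.Finite
import Mathlib.AlgebraicGeometry.Morphisms.Flat
import Mathlib.AlgebraicGeometry.Morphisms.FinitePresentation
import Mathlib.RingTheory.Flat.EquationalCriterion
import Mathlib.RingTheory.Finiteness.ModuleFinitePresentation
import Mathlib.CategoryTheory.Monoidal.Cartesian.Over

/-!
The scheme of morphisms from a finite locally free scheme to an affine one, over an affine open.
-/

set_option autoImplicit false
universe u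

open CategoryTheory MonoidalCategory CartesianMonoidalCategory AlgebraicGeometry
open scoped TensorProduct

noncomputable section

namespace Groth.Reductive.HomScheme

variable {S : Scheme.{u}}

/-- An affine model of an affine morphism over an open affine. -/
lemma exists_affine_model (X : Over S) [IsAffineHom X.hom] {R : CommRingCat.{u}}
    (g : Spec R ⟶ S) :
    ∃ (A : Type u) (_ : CommRing A) (_ : Algebra R A) (xA : Spec (CommRingCat.of A) ⟶ X.left),
      IsPullback xA (Spec.map (CommRingCat.ofHom (algebraMap R A))) X.hom g := by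
  let P := Limits.pullback X.hom g
  have : IsAffineHom (Limits.pullback.snd X.hom g) :=
    MorphismProperty.pullback_snd _ _ inferInstance
  have : IsAffine P := isAffine_of_isAffineHom (Limits.pullback.snd X.hom g)
  let φ : R ⟶ Γ(P, ⊤) := Spec.preimage (P.isoSpec.inv ≫ Limits.pullback.snd X.hom g)
  letI : Algebra R Γ(P, ⊤) := φ.hom.toAlgebra
  refine ⟨Γ(P, ⊤), inferInstance, φ.hom.toAlgebra, P.isoSpec.inv ≫ Limits.pullback.fst X.hom g, ?_⟩
  have hφ : Spec.map (CommRingCat.ofHom (algebraMap R Γ(P, ⊤))) =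
      P.isoSpec.inv ≫ Limits.pullback.snd X.hom g := Spec.map_preimage _
  rw [hφ]
  exact (IsPullback.of_hasPullback X.hom g).of_iso P.isoSpec (Iso.refl _) (Iso.refl _) (Iso.refl _)
    (by simp [P]) (by simp [P]) (by simp) (by simp)

section Chart

variable {R : CommRingCat.{u}} (g : Spec R ⟶ S) [IsOpenImmersion g]

/-- The affine test object. -/
abbrev TC (C : Type u) [CommRing C] [Algebra R C] : Over S :=
  Over.mk (Spec.map (CommRingCat.ofHom (algebraMap R C)) ≫ g)

/-- Functoriality of the test objects. -/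
def TCmap {C D : Type u} [CommRing C] [Algebra R C] [CommRing D] [Algebra R D] (ω : C →ₐ[R] D) :
    TC g D ⟶ TC g C :=
  Over.homMk (Spec.map (CommRingCat.ofHom ω.toRingHom)) (by
    show Spec.map _ ≫ Spec.map _ ≫ g = Spec.map _ ≫ g
    rw [← Spec.map_comp_assoc, ← CommRingCat.ofHom_comp, AlgHom.toRingHom_eq_coe,
      AlgHom.comp_algebraMap])

lemma existsUnique_TCmap {C D : Type u} [CommRing C] [Algebra R C] [CommRing D] [Algebra R D]
    (v : TC g D ⟶ TC g C) : ∃! ω : C →ₐ[R] D, TCmap g ω = v := by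
  have hv := Over.w v
  simp only [Over.mk_hom] at hv
  rw [← Category.assoc, cancel_mono] at hv
  have h1 : CommRingCat.ofHom (algebraMap R C) ≫ Spec.preimage v.left =
      CommRingCat.ofHom (algebraMap R D) := by
    apply Spec.map_injective
    rw [Spec.map_comp, Spec.map_preimage]
    exact hv
  refine ⟨⟨(Spec.preimage v.left).hom, fun r ↦ ConcreteCategory.congr_hom h1 r⟩, ?_, fun ω hω ↦ ?_⟩
  · exact Over.OverMorphism.ext (Spec.map_preimage v.left)
  · refine AlgHom.ext fun x ↦ ?_
    show ω x = (Spec.preimage v.left).hom x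
    rw [← hω]
    show ω x = (Spec.preimage (Spec.map (CommRingCat.ofHom ω.toRingHom))).hom x
    rw [Spec.preimage_map]
    rfl

variable {X Y : Over S} {A B : Type u} [CommRing A] [Algebra R A] [CommRing B] [Algebra R B]
  {xA : Spec (CommRingCat.of A) ⟶ X.left} {yB : Spec (CommRingCat.of B) ⟶ Y.left}
  (hA : IsPullback xA (Spec.map (CommRingCat.ofHom (algebraMap R A))) X.hom g)
  (hB : IsPullback yB (Spec.map (CommRingCat.ofHom (algebraMap R B))) Y.hom g)

include hA in
lemma isPullback_prod (C : Type u) [CommRing C] [Algebra R C] :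
    IsPullback (Spec.map (CommRingCat.ofHom (Algebra.TensorProduct.includeLeftRingHom :
        A →+* A ⊗[R] C)) ≫ xA)
      (Spec.map (CommRingCat.ofHom (Algebra.TensorProduct.includeRight : C →ₐ[R] A ⊗[R] C).toRingHom))
      X.hom (Spec.map (CommRingCat.ofHom (algebraMap R C)) ≫ g) :=
  ((isPullback_SpecMap_of_isPushout _ _ _ _
    (CommRingCat.isPushout_tensorProduct R A C)).flip.paste_vert hA.flip).flip

/-- The product with a test object. -/
def prodIso (C : Type u) [CommRing C] [Algebra R C] :
    Spec (CommRingCat.of (A ⊗[R] C)) ≅ (X ⊗ TC g C).left :=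
  (isPullback_prod g hA C).isoPullback

lemma prodIso_fst (C : Type u) [CommRing C] [Algebra R C] :
    (prodIso g hA C).hom ≫ Limits.pullback.fst X.hom (TC g C).hom =
      Spec.map (CommRingCat.ofHom Algebra.TensorProduct.includeLeftRingHom) ≫ xA :=
  (isPullback_prod g hA C).isoPullback_hom_fst

lemma prodIso_snd (C : Type u) [CommRing C] [Algebra R C] :
    (prodIso g hA C).hom ≫ Limits.pullback.snd X.hom (TC g C).hom =
      Spec.map (CommRingCat.ofHom
        (Algebra.TensorProduct.includeRight : C →ₐ[R] A ⊗[R] C).toRingHom) :=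
  (isPullback_prod g hA C).isoPullback_hom_snd

lemma prodIso_hom (C : Type u) [CommRing C] [Algebra R C] :
    (prodIso g hA C).hom ≫ (X ⊗ TC g C).hom =
      Spec.map (CommRingCat.ofHom (algebraMap R (A ⊗[R] C))) ≫ g := by
  show (prodIso g hA C).hom ≫ Limits.pullback.fst X.hom (TC g C).hom ≫ X.hom = _
  rw [← Category.assoc, prodIso_fst g hA, Category.assoc, hA.w, ← Spec.map_comp_assoc,
    ← CommRingCat.ofHom_comp]

lemma prodIso_natural {C D : Type u} [CommRing C] [Algebra R C] [CommRing D] [Algebra R D]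
    (ω : C →ₐ[R] D) :
    (prodIso g hA D).hom ≫ (X ◁ TCmap g ω).left =
      Spec.map (CommRingCat.ofHom (Algebra.TensorProduct.map (AlgHom.id R A) ω).toRingHom) ≫
        (prodIso g hA C).hom := by
  apply Limits.pullback.hom_ext
  · have e : (X ◁ TCmap g ω).left ≫ Limits.pullback.fst X.hom (TC g C).hom =
        Limits.pullback.fst X.hom (TC g D).hom :=
      congrArg (fun z ↦ z.left) (whiskerLeft_fst X (TCmap g ω))
    rw [Category.assoc, Category.assoc, e, prodIso_fst g hA, prodIso_fst g hA,
      ← Spec.map_comp_assoc, ← CommRingCat.ofHom_comp]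
    congr 3
    exact RingHom.ext fun a ↦ by simp
  · have e : (X ◁ TCmap g ω).left ≫ Limits.pullback.snd X.hom (TC g C).hom =
        Limits.pullback.snd X.hom (TC g D).hom ≫ (TCmap g ω).left :=
      congrArg (fun z ↦ z.left) (whiskerLeft_snd X (TCmap g ω))
    rw [Category.assoc, Category.assoc, e, prodIso_snd g hA, ← Category.assoc, prodIso_snd g hA]
    show Spec.map _ ≫ Spec.map _ = Spec.map _ ≫ Spec.map _
    rw [← Spec.map_comp, ← Spec.map_comp, ← CommRingCat.ofHom_comp, ← CommRingCat.ofHom_comp]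
    congr 2

/-- The morphism of a comorphism. -/
def toMor {C : Type u} [CommRing C] [Algebra R C] (β : B →ₐ[R] A ⊗[R] C) : X ⊗ TC g C ⟶ Y :=
  Over.homMk ((prodIso g hA C).inv ≫ Spec.map (CommRingCat.ofHom β.toRingHom) ≫ yB) (by
    rw [Category.assoc, Category.assoc, hB.w, ← Spec.map_comp_assoc, ← CommRingCat.ofHom_comp,
      AlgHom.toRingHom_eq_coe, AlgHom.comp_algebraMap, ← prodIso_hom g hA, Iso.inv_hom_id_assoc])

lemma existsUnique_comorphism {C : Type u} [CommRing C] [Algebra R C] (φ : X ⊗ TC g C ⟶ Y) :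
    ∃! β : B →ₐ[R] A ⊗[R] C, toMor g hA hB β = φ := by
  have hc : ((prodIso g hA C).hom ≫ φ.left) ≫ Y.hom =
      Spec.map (CommRingCat.ofHom (algebraMap R (A ⊗[R] C))) ≫ g := by
    rw [Category.assoc, Over.w, prodIso_hom g hA]
  let l := hB.lift _ _ hc
  have h1 : CommRingCat.ofHom (algebraMap R B) ≫ Spec.preimage l =
      CommRingCat.ofHom (algebraMap R (A ⊗[R] C)) := by
    apply Spec.map_injective
    rw [Spec.map_comp, Spec.map_preimage]
    exact hB.lift_snd _ _ hc
  refine ⟨⟨(Spec.preimage l).hom, fun r ↦ ConcreteCategory.congr_hom h1 r⟩,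
    Over.OverMorphism.ext ?_, fun β hβ ↦ ?_⟩
  · show (prodIso g hA C).inv ≫ Spec.map (Spec.preimage l) ≫ yB = φ.left
    rw [Spec.map_preimage, hB.lift_fst, Iso.inv_hom_id_assoc]
  · have hl : Spec.map (CommRingCat.ofHom β.toRingHom) = l := by
      apply hB.hom_ext
      · rw [hB.lift_fst, ← hβ]
        simp [toMor]
      · rw [hB.lift_snd, ← Spec.map_comp, ← CommRingCat.ofHom_comp, AlgHom.toRingHom_eq_coe,
          AlgHom.comp_algebraMap]
    refine AlgHom.ext fun x ↦ ?_
    show β x = (Spec.preimage l).hom x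
    rw [← hl, Spec.preimage_map]
    rfl

lemma toMor_natural {C D : Type u} [CommRing C] [Algebra R C] [CommRing D] [Algebra R D]
    (ω : C →ₐ[R] D) (β : B →ₐ[R] A ⊗[R] C) :
    (X ◁ TCmap g ω) ≫ toMor g hA hB β =
      toMor g hA hB ((Algebra.TensorProduct.map (AlgHom.id R A) ω).comp β) := by
  apply Over.OverMorphism.ext
  rw [← cancel_epi (prodIso g hA D).hom]
  simp only [toMor, Over.comp_left, Over.homMk_left, Iso.hom_inv_id_assoc]
  rw [← Category.assoc, prodIso_natural g hA, Category.assoc, Iso.hom_inv_id_assoc,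
    ← Spec.map_comp_assoc, ← CommRingCat.ofHom_comp]
  rfl

include hA hB in
lemma existsUnique_chart {D : Type u} [CommRing D] [Algebra R D] (β₀ : B →ₐ[R] A ⊗[R] D)
    (h : ∀ (C : Type u) [CommRing C] [Algebra R C] (β : B →ₐ[R] A ⊗[R] C),
      ∃! ω : D →ₐ[R] C, (Algebra.TensorProduct.map (AlgHom.id R A) ω).comp β₀ = β)
    (T : Over S) [IsAffine T.left] (hT : Set.range T.hom ⊆ Set.range g) (φ : X ⊗ T ⟶ Y) :
    ∃! v : T ⟶ TC g D, (X ◁ v) ≫ toMor g hA hB β₀ = φ := by
  let k : T.left ⟶ Spec R := IsOpenImmersion.lift g T.hom hT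
  let C := Γ(T.left, ⊤)
  letI : Algebra R C := (Spec.preimage (T.left.isoSpec.inv ≫ k)).hom.toAlgebra
  let e : T ≅ TC g C := Over.isoMk T.left.isoSpec (by
    show T.left.isoSpec.hom ≫ Spec.map (Spec.preimage (T.left.isoSpec.inv ≫ k)) ≫ g = T.hom
    rw [Spec.map_preimage]
    simp [k])
  obtain ⟨β, hβ, hβu⟩ := existsUnique_comorphism g hA hB ((X ◁ e.inv) ≫ φ)
  obtain ⟨ω, hω, hωu⟩ := h C β
  refine ⟨e.hom ≫ TCmap g ω, ?_, fun v hv ↦ ?_⟩
  · show (X ◁ (e.hom ≫ TCmap g ω)) ≫ toMor g hA hB β₀ = φ
    rw [whiskerLeft_comp, Category.assoc, toMor_natural g hA hB, hω, hβ, ← whiskerLeft_comp_assoc,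
      Iso.hom_inv_id, whiskerLeft_id, Category.id_comp]
  · obtain ⟨ω', hω', -⟩ := existsUnique_TCmap g (e.inv ≫ v)
    have h2 : ω' = ω := hωu ω' (hβu _ (by
      show toMor g hA hB _ = _
      rw [← toMor_natural g hA hB, hω', whiskerLeft_comp, Category.assoc, hv]))
    rw [← h2, hω', Iso.hom_inv_id_assoc]

end Chart

/-- `M` with `ev` represents morphisms from `X` to `Y` on affine schemes over the open `U`. -/
def RepOn (X Y : Over S) (U : Set S) {M : Over S} (ev : X ⊗ M ⟶ Y) : Prop :=
  ∀ T : Over S, IsAffine T.left → Set.range T.hom ⊆ U →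
    ∀ φ : X ⊗ T ⟶ Y, ∃! v : T ⟶ M, (X ◁ v) ≫ ev = φ

theorem exists_local {R : CommRingCat.{u}} (g : Spec R ⟶ S) [IsOpenImmersion g] (X Y : Over S)
    [IsFinite X.hom] [Flat X.hom] [LocallyOfFinitePresentation X.hom] [IsAffineHom Y.hom] :
    ∃ (W : Scheme.{u}) (k : W ⟶ Spec R) (ev : X ⊗ Over.mk (k ≫ g) ⟶ Y),
      IsAffineHom k ∧ RepOn X Y (Set.range g) ev ∧
      (LocallyOfFiniteType Y.hom → LocallyOfFiniteType k) ∧
      (LocallyOfFinitePresentation Y.hom → LocallyOfFinitePresentation k) := by
  obtain ⟨A, _, _, xA, hA⟩ := exists_affine_model X g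
  obtain ⟨B, _, _, yB, hB⟩ := exists_affine_model Y g
  have hfin : Module.Finite R A := by
    have h : IsFinite (Spec.map (CommRingCat.ofHom (algebraMap R A))) :=
      MorphismProperty.of_isPullback hA inferInstance
    rw [IsFinite.SpecMap_iff] at h
    exact RingHom.finite_algebraMap.mp h
  have hfp : Algebra.FinitePresentation R A := by
    have h : LocallyOfFinitePresentation (Spec.map (CommRingCat.ofHom (algebraMap R A))) :=
      MorphismProperty.of_isPullback hA inferInstance
    rw [HasRingHomProperty.Spec_iff (P := @LocallyOfFinitePresentation)] at h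
    exact RingHom.finitePresentation_algebraMap.mp h
  have hfl : Module.Flat R A := by
    have h : Flat (Spec.map (CommRingCat.ofHom (algebraMap R A))) :=
      MorphismProperty.of_isPullback hA inferInstance
    rw [HasRingHomProperty.Spec_iff (P := @Flat)] at h
    exact RingHom.flat_algebraMap_iff.mp h
  have : Module.FinitePresentation R A := Module.FinitePresentation.of_finite_of_finitePresentation R A
  have : Module.Projective R A := Module.Flat.projective_of_finitePresentation
  obtain ⟨c⟩ := Coords.exists_of_finite_projective (R := R) (A := A)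
  -- choose a presentation
  obtain ⟨σ, q, hq, Gen, hGen, hft, hfpB⟩ : ∃ (σ : Type u) (q : MvPolynomial σ R →ₐ[R] B)
      (_ : Function.Surjective q) (Gen : Set (MvPolynomial σ R)) (_ : RingHom.ker q = Ideal.span Gen),
      (Algebra.FiniteType R B → Finite σ) ∧
        (Algebra.FinitePresentation R B → Gen.Finite) := by
    by_cases hft : Algebra.FiniteType R B
    · by_cases hfpB : Algebra.FinitePresentation R B
      · obtain ⟨n, f, hf, s, hs⟩ := hfpB.out
        let e := MvPolynomial.renameEquiv R (Equiv.ulift.{u} (α := Fin n))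
        have hqs : Function.Surjective (f.comp e.toAlgHom) := hf.comp e.surjective
        have hk : (RingHom.ker (f.comp e.toAlgHom)).FG := by
          exact Algebra.FinitePresentation.ker_fG_of_surjective _ hqs
        obtain ⟨t, ht⟩ := hk
        exact ⟨_, _, hqs, t, ht.symm, fun _ ↦ inferInstance, fun _ ↦ t.finite_toSet⟩
      · obtain ⟨σ, _, q, hq⟩ := Algebra.FiniteType.iff_quotient_mvPolynomial'.mp hft
        exact ⟨σ, q, hq, _, (Ideal.span_eq _).symm, fun _ ↦ inferInstance, fun h ↦ absurd h hfpB⟩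
    · exact ⟨B, MvPolynomial.aeval id, fun b ↦ ⟨MvPolynomial.X b, by simp⟩, _,
        (Ideal.span_eq _).symm, fun h ↦ absurd h hft,
        fun h ↦ absurd (inferInstance : Algebra.FiniteType R B) hft⟩
  obtain ⟨β₀, hβ₀⟩ := exists_universal c q Gen hq hGen
  refine ⟨Spec (CommRingCat.of (W c Gen)),
    Spec.map (CommRingCat.ofHom (algebraMap R (W c Gen))), toMor g hA hB β₀, inferInstance,
    fun T hT hTr φ ↦ existsUnique_chart g hA hB β₀ hβ₀ T hTr φ, fun h ↦ ?_, fun h ↦ ?_⟩
  · have hB' : LocallyOfFiniteType (Spec.map (CommRingCat.ofHom (algebraMap R B))) :=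
      MorphismProperty.of_isPullback hB h
    rw [HasRingHomProperty.Spec_iff (P := @LocallyOfFiniteType)] at hB' ⊢
    have := hft (RingHom.finiteType_algebraMap.mp hB')
    exact RingHom.finiteType_algebraMap.mpr inferInstance
  · have hB' : LocallyOfFinitePresentation (Spec.map (CommRingCat.ofHom (algebraMap R B))) :=
      MorphismProperty.of_isPullback hB h
    rw [HasRingHomProperty.Spec_iff (P := @LocallyOfFinitePresentation)] at hB' ⊢
    have hB2 := RingHom.finitePresentation_algebraMap.mp hB'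
    have := hft inferInstance
    exact RingHom.finitePresentation_algebraMap.mpr (finitePresentation c Gen (hfpB hB2))

end Groth.Reductive.HomScheme
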