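import Mathlib.RingTheory.MvPolynomial.Basic
import Mathlib.RingTheory.FinitePresentation
import Mathlib.RingTheory.TensorProduct.Maps
import Mathlib.RingTheory.Finiteness.Projective

/-!
Restriction of scalars of algebras along a finite projective algebra.
-/

set_option autoImplicit false
universe u

open scoped TensorProduct

noncomputable section

namespace Groth.Reductive.HomScheme

variable {R A B : Type u} [CommRing R] [CommRing A] [Algebra R A] [CommRing B] [Algebra R B]

/-- A coordinate system: `a = ∑ d i a • e i`. -/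
structure Coords (R A : Type u) [CommRing R] [CommRing A] [Algebra R A] where
  n : ℕ
  e : Fin n → A
  d : Fin n → A →ₗ[R] R
  sum_eq : ∀ a, ∑ i, d i a • e i = a

lemma Coords.exists_of_finite_projective [Module.Finite R A] [Module.Projective R A] :
    Nonempty (Coords R A) := by
  obtain ⟨n, f, g, hf, hg, hfg⟩ := Module.Finite.exists_comp_eq_id_of_projective R A
  refine ⟨⟨n, fun i ↦ f (Pi.single i 1), fun i ↦ (LinearMap.proj i).comp g, fun a ↦ ?_⟩⟩
  have h := LinearMap.congr_fun hfg a
  rw [LinearMap.comp_apply, pi_eq_sum_univ' (g a), map_sum] at h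
  simpa using h

variable (c : Coords R A)

/-- The coordinates of an element of `A ⊗ C`. -/
def coord {C : Type u} [CommRing C] [Algebra R C] (i : Fin c.n) : A ⊗[R] C →ₗ[R] C :=
  (TensorProduct.lid R C).toLinearMap ∘ₗ (c.d i).rTensor C

lemma coord_tmul {C : Type u} [CommRing C] [Algebra R C] (i : Fin c.n) (a : A) (x : C) :
    coord c i (a ⊗ₜ[R] x) = c.d i a • x := by
  simp [coord]

lemma sum_coord {C : Type u} [CommRing C] [Algebra R C] (z : A ⊗[R] C) :
    ∑ i, c.e i ⊗ₜ[R] coord c i z = z := by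
  induction z using TensorProduct.induction_on with
  | zero => simp
  | tmul a x =>
    simp only [coord_tmul, TensorProduct.tmul_smul, ← TensorProduct.smul_tmul', ← TensorProduct.sum_tmul,
      c.sum_eq]
    simp only [TensorProduct.smul_tmul', ← TensorProduct.sum_tmul, c.sum_eq]
  | add x y hx hy => simp only [map_add, TensorProduct.tmul_add, Finset.sum_add_distrib, hx, hy]

lemma coord_map {C D : Type u} [CommRing C] [Algebra R C] [CommRing D] [Algebra R D] (φ : C →ₐ[R] D)
    (i : Fin c.n) (z : A ⊗[R] C) :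
    coord c i (Algebra.TensorProduct.map (AlgHom.id R A) φ z) = φ (coord c i z) := by
  induction z using TensorProduct.induction_on with
  | zero => simp
  | tmul a x => simp [coord_tmul]
  | add x y hx hy => simp [map_add, hx, hy]

variable {σ : Type u} (q : MvPolynomial σ R →ₐ[R] B) (Gen : Set (MvPolynomial σ R))

/-- The generic point. -/
def θ (s : σ) : A ⊗[R] MvPolynomial (σ × Fin c.n) R :=
  ∑ i, c.e i ⊗ₜ[R] MvPolynomial.X (s, i)

/-- The relations of the restriction of scalars. -/
def relSet : Set (MvPolynomial (σ × Fin c.n) R) :=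
  Set.range (fun sk : σ × Fin c.n ↦ MvPolynomial.X sk - coord c sk.2 (θ c sk.1)) ∪
    Set.image2 (fun (f : MvPolynomial σ R) (k : Fin c.n) ↦ coord c k (MvPolynomial.aeval (θ c) f))
      Gen Set.univ

/-- The restriction of scalars. -/
abbrev W : Type u := MvPolynomial (σ × Fin c.n) R ⧸ Ideal.span (relSet c Gen)

/-- The projection. -/
abbrev mkW : MvPolynomial (σ × Fin c.n) R →ₐ[R] W c Gen := Ideal.Quotient.mkₐ R _

theorem exists_universal_aux (hq : Function.Surjective q) (hGen : RingHom.ker q = Ideal.span Gen)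
    {D : Type u} [CommRing D] [Algebra R D] (π : MvPolynomial (σ × Fin c.n) R →ₐ[R] D)
    (hπ : Function.Surjective π) (hπk : RingHom.ker π = Ideal.span (relSet c Gen)) :
    ∃ β₀ : B →ₐ[R] A ⊗[R] D, ∀ (C : Type u) [CommRing C] [Algebra R C]
      (β : B →ₐ[R] A ⊗[R] C),
      ∃! ω : D →ₐ[R] C, (Algebra.TensorProduct.map (AlgHom.id R A) ω).comp β₀ = β := by
  have hX : ∀ s k, π (coord c k (θ c s)) = π (MvPolynomial.X (s, k)) := fun s k ↦ by
    rw [← sub_eq_zero, ← map_sub, ← neg_sub, map_neg, neg_eq_zero]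
    exact (hπk ▸ Ideal.subset_span (Or.inl ⟨(s, k), rfl⟩) :
      MvPolynomial.X (s, k) - coord c k (θ c s) ∈ RingHom.ker π)
  let Θ : MvPolynomial σ R →ₐ[R] A ⊗[R] D :=
    (Algebra.TensorProduct.map (AlgHom.id R A) π).comp (MvPolynomial.aeval (θ c))
  have hΘ : ∀ f, Θ f = Algebra.TensorProduct.map (AlgHom.id R A) π (MvPolynomial.aeval (θ c) f) :=
    fun _ ↦ rfl
  have hker : RingHom.ker q ≤ RingHom.ker Θ := by
    rw [hGen, Ideal.span_le]
    intro f hf
    show Θ f = 0
    rw [← sum_coord c (Θ f)]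
    refine Finset.sum_eq_zero fun k _ ↦ ?_
    have : coord c k (MvPolynomial.aeval (θ c) f) ∈ RingHom.ker π :=
      hπk ▸ Ideal.subset_span (Or.inr ⟨f, hf, k, trivial, rfl⟩)
    rw [hΘ, coord_map, RingHom.mem_ker.mp this, TensorProduct.tmul_zero]
  let β₀ : B →ₐ[R] A ⊗[R] D := AlgHom.liftOfSurjective q hq Θ hker
  have hβ₀ : ∀ f, β₀ (q f) = Θ f := fun f ↦
    AlgHom.congr_fun (AlgHom.liftOfSurjective_comp q hq Θ hker) f
  refine ⟨β₀, fun C _ _ β ↦ ?_⟩
  let w : MvPolynomial (σ × Fin c.n) R →ₐ[R] C :=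
    MvPolynomial.aeval fun sk ↦ coord c sk.2 (β (q (MvPolynomial.X sk.1)))
  have hwX : ∀ s k, w (MvPolynomial.X (s, k)) = coord c k (β (q (MvPolynomial.X s))) := fun s k ↦ by
    simp [w]
  have hw : (Algebra.TensorProduct.map (AlgHom.id R A) w).comp (MvPolynomial.aeval (θ c)) =
      β.comp q := by
    refine MvPolynomial.algHom_ext fun s ↦ ?_
    simp only [AlgHom.comp_apply, MvPolynomial.aeval_X, θ, map_sum,
      Algebra.TensorProduct.map_tmul, AlgHom.id_apply, hwX]
    exact sum_coord c _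
  have hw' : ∀ f, Algebra.TensorProduct.map (AlgHom.id R A) w (MvPolynomial.aeval (θ c) f) =
      β (q f) := fun f ↦ AlgHom.congr_fun hw f
  have hrel : RingHom.ker π ≤ RingHom.ker w := by
    rw [hπk, Ideal.span_le]
    rintro _ (⟨⟨s, k⟩, rfl⟩ | ⟨f, hf, k, -, rfl⟩)
    · show w (_ - _) = 0
      rw [map_sub, ← coord_map, hwX, ← hw' (MvPolynomial.X s), MvPolynomial.aeval_X, sub_self]
    · show w _ = 0
      rw [← coord_map, hw', show q f = 0 from (hGen ▸ Ideal.subset_span hf : f ∈ RingHom.ker q),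
        map_zero, map_zero]
  let ω : D →ₐ[R] C := AlgHom.liftOfSurjective π hπ w hrel
  have hω : ω.comp π = w := AlgHom.liftOfSurjective_comp π hπ w hrel
  refine ⟨ω, ?_, fun ω' hω' ↦ ?_⟩
  · refine AlgHom.ext fun b ↦ ?_
    obtain ⟨f, rfl⟩ := hq b
    rw [AlgHom.comp_apply, hβ₀, hΘ, ← AlgHom.comp_apply, ← Algebra.TensorProduct.map_id_comp, hω, hw']
  · have h1 : ω'.comp π = ω.comp π := by
      refine MvPolynomial.algHom_ext fun ⟨s, k⟩ ↦ ?_
      have h2 := congrArg (coord c k) (AlgHom.congr_fun hω' (q (MvPolynomial.X s)))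
      rw [AlgHom.comp_apply, hβ₀, hΘ, MvPolynomial.aeval_X, coord_map, coord_map, hX] at h2
      rw [hω, hwX, AlgHom.comp_apply, h2]
    exact AlgHom.ext fun d ↦ by
      obtain ⟨f, rfl⟩ := hπ d
      exact AlgHom.congr_fun h1 f

theorem exists_universal (hq : Function.Surjective q) (hGen : RingHom.ker q = Ideal.span Gen) :
    ∃ β₀ : B →ₐ[R] A ⊗[R] W c Gen, ∀ (C : Type u) [CommRing C] [Algebra R C]
      (β : B →ₐ[R] A ⊗[R] C),
      ∃! ω : W c Gen →ₐ[R] C, (Algebra.TensorProduct.map (AlgHom.id R A) ω).comp β₀ = β :=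
  exists_universal_aux c q Gen hq hGen (mkW c Gen) (Ideal.Quotient.mkₐ_surjective R _)
    (Ideal.Quotient.mkₐ_ker R _)

instance finiteType [Finite σ] : Algebra.FiniteType R (W c Gen) :=
  .of_surjective (mkW c Gen) (Ideal.Quotient.mkₐ_surjective R _)

lemma finitePresentation [Finite σ] (h : Gen.Finite) : Algebra.FinitePresentation R (W c Gen) := by
  refine Algebra.FinitePresentation.quotient ?_
  exact Submodule.fg_span ((Set.finite_range _).union (h.image2 _ Set.finite_univ))

end Groth.Reductive.HomScheme
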